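import Groth.Agent.AlgSpDesc.RelDimInv
import Groth.Agent.AlgSpDesc.RelDimBC
import Groth.Agent.FibreDimChart.BaseChange
import Groth.Agent.FibreDimChart.Constr
import Groth.Agent.AlgSpc.Compact

/-!
The dimension of the fibres of a morphism of algebraic spaces, on charts.
-/

set_option autoImplicit false
set_option linter.style.haveILetI false
set_option backward.isDefEq.respectTransparency false

universe u

open CategoryTheory CategoryTheory.Limits AlgebraicGeometry

namespace Groth.Agent.AlgSpFibDim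

open _root_.AlgSp Groth.Agent.AlgSpc Groth.Agent.AlgSpDesc

variable {S : Scheme.{u}} {X Y : Space S} (f : X ⟶ Y)

/-- All points over `y` have local fibre dimension at most `c`. -/
def FibDimLe (y : Points Y.obj) (c : WithBot ℕ∞) : Prop :=
  ∀ x, Points.map f.hom x = y → HasAtMor (fun _ _ h u => FlatMor.fibreDimAt h u ≤ c) f.hom x

variable {f} in
theorem hasAtMor_baseChange_iff {Y' X' : Space S} {g : Y' ⟶ Y} {g' : X' ⟶ X} {f' : X' ⟶ Y'}
    (hf : LocP @LocallyOfFiniteType f.hom) (sq : IsPullback g'.hom f'.hom f.hom g.hom) (P : WithBot ℕ∞ → Prop)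
    (x' : Points X'.obj) :
    HasAtMor (fun _ _ h u => P (FlatMor.fibreDimAt h u)) f'.hom x' ↔
      HasAtMor (fun _ _ h u => P (FlatMor.fibreDimAt h u)) f.hom (Points.map g'.hom x') := by
  obtain ⟨U, V, U', V', a, b, a', b', k, k', ω, wU, u', ha, hb, ha', hb', w, w', sU, rfl, hu⟩ :=
    exists_charts_isPullback sq x'
  haveI : LocallyOfFiniteType k.left := hf a b k ha hb w
  rw [← hu, hasAtMor_fibreDimAt_iff P ha' hb' w', hasAtMor_fibreDimAt_iff P ha hb w,
    FibreDimChart.fibreDimAt_of_isPullback k.left ω.left wU.left k'.left sU]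

theorem localDim_eq_fibreDimAt {W T : Scheme.{u}} (h : W ⟶ T) [Subsingleton ↥T] (w : W) :
    FlatMor.fibreDimAt h w = FlatMor.localDim W w := by
  rw [FibreDimChart.fibreDimAt_eq_localDim_preimage]
  have e : (h ⁻¹' {h w} : Set W) = Set.univ := Set.eq_univ_of_forall fun z => Subsingleton.elim (h z) (h w)
  exact ((FieldExtLD.localDim_of_isOpenEmbedding
    (g := (Subtype.val : ↥(h ⁻¹' {h w}) → W))
    (by rw [e]; exact isOpen_univ.isOpenEmbedding_subtypeVal) ⟨w, rfl⟩).symm :)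

theorem topologicalKrullDim_le_iff_localDim {W : Scheme.{u}} (c : WithBot ℕ∞) :
    topologicalKrullDim ↥W ≤ c ↔ ∀ w : W, FlatMor.localDim W w ≤ c := by
  refine ⟨fun h w => (TopDimLib.localDim_le_dim w).trans h, fun h => TopDimLib.dim_le fun p => ?_⟩
  obtain ⟨z, hz⟩ := p.head.isIrreducible.nonempty
  exact (TopDimLib.length_le_localDim p hz).trans (h z)

section Fibre

variable {f}

theorem mk_eq_map_toHom (k : FieldPt Y.obj) (z : Points ((yon S).obj k.pt)) :
    Points.map k.toHom z = Points.mk k := by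
  obtain ⟨t, rfl⟩ := (Points.schemeEquiv k.pt).surjective z
  exact (Points.map_ofPt _ _ t).trans (by rw [Category.id_comp]; exact Points.ofPt_toHom k t)

theorem dim_fibre_le_iff (hf : LocP @LocallyOfFiniteType f.hom) (k : FieldPt Y.obj)
    {Xk : Sp S} {fst : Xk ⟶ X.obj} {snd : Xk ⟶ (yon S).obj k.pt} (h : IsPullback fst snd f.hom k.toHom)
    (c : WithBot ℕ∞) : AlgSp.dim Xk ≤ c ↔ FibDimLe f (Points.mk k) c := by
  have hXk := isAlgSpace_of_isPullback X.property Y.property (IsAlgSpace.yon_obj k.pt) h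
  let Xk' : Space S := ⟨Xk, hXk⟩
  let T : Space S := ⟨_, IsAlgSpace.yon_obj k.pt⟩
  haveI : Subsingleton ↥k.pt.left := inferInstanceAs (Subsingleton ↥(Spec (CommRingCat.of k.K)))
  have hP : ∀ z, HasAtMor (fun _ _ h u => FlatMor.fibreDimAt h u ≤ c) snd z ↔
      HasAtMor (fun _ _ h u => FlatMor.fibreDimAt h u ≤ c) f.hom (Points.map fst z) := fun z =>
    hasAtMor_baseChange_iff (g := (ObjectProperty.homMk k.toHom : T ⟶ Y))
      (g' := (ObjectProperty.homMk fst : Xk' ⟶ X)) (f' := (ObjectProperty.homMk snd : Xk' ⟶ T)) hf h (· ≤ c) z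
  have hloc : ∀ (W : Over S) (a : (yon S).obj W ⟶ Xk) (_ : RepWith @Etale a) (w : ↥W.left),
      HasAtMor (fun _ _ h u => FlatMor.fibreDimAt h u ≤ c) snd (Points.ofPt a w) ↔ FlatMor.localDim W.left w ≤ c := by
    intro W a ha w
    rw [hasAtMor_fibreDimAt_iff (· ≤ c) ha (repWith_id _ k.pt) (k₀ := pre (a ≫ snd))
      (by rw [map_pre, Category.comp_id]), localDim_eq_fibreDimAt]
  constructor
  · intro hd x hx
    obtain ⟨t⟩ := (inferInstanceAs (Nonempty ↥(Spec (CommRingCat.of k.K))) : Nonempty ↥k.pt.left)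
    obtain ⟨z, rfl, -⟩ := exists_point_of_isPullback h x (Points.ofScheme k.pt t) (hx.trans (mk_eq_map_toHom k _).symm)
    rw [← hP]
    obtain ⟨W, a, ha, has⟩ := hXk.atlas
    obtain ⟨w, rfl⟩ := surjective_ofPt has z
    rw [hloc W a ha]
    refine (TopDimLib.localDim_le_dim w).trans (le_trans ?_ hd)
    exact le_iSup_of_le W (le_iSup₂_of_le a ha le_rfl)
  · intro hd
    refine iSup_le fun W => iSup₂_le fun a ha => (topologicalKrullDim_le_iff_localDim c).2 fun w => ?_
    rw [← hloc W a ha, hP]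
    refine hd _ ?_
    rw [← Points.map_comp, h.w, Points.map_comp, mk_eq_map_toHom]

theorem not_le_bot_of_fibreDimAt {U V : Scheme.{u}} (h : U ⟶ V) (u : U) : ¬ FlatMor.fibreDimAt h u ≤ ⊥ := by
  intro hx
  obtain ⟨W, hW, hW'⟩ := TopDimLib.exists_localDim_eq (h.asFiber u)
  rw [FlatMor.fibreDimAt, ← hW'] at hx
  have : Nonempty (W : Set ↥(h.fiber (h u))) := ⟨⟨_, hW⟩⟩
  have h0 : (0 : WithBot ℕ∞) ≤ topologicalKrullDim (W : Set ↥(h.fiber (h u))) := by
    have : Nonempty (TopologicalSpace.IrreducibleCloseds (W : Set ↥(h.fiber (h u)))) :=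
      ⟨⟨closure {⟨_, hW⟩}, isIrreducible_singleton.closure, isClosed_closure⟩⟩
    exact Order.krullDim_nonneg
  exact absurd (h0.trans hx) (by simp)

theorem fibDimLe_bot_iff (y : Points Y.obj) : FibDimLe f y ⊥ ↔ y ∉ Set.range (Points.map f.hom) := by
  refine ⟨?_, fun h x hx => absurd ⟨x, hx⟩ h⟩
  rintro h ⟨x, hx⟩
  obtain ⟨U, V, a, b, k, u, -, -, -, -, hd⟩ := h x hx
  exact not_le_bot_of_fibreDimAt _ _ hd

/-- For a chart of the preimage of an etale chart of the base. -/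
theorem fibDimLe_ofPt_iff {V : Over S} {b : (yon S).obj V ⟶ Y.obj} (hb : RepWith @Etale b) {P : Sp S}
    {fst : P ⟶ X.obj} {snd : P ⟶ (yon S).obj V} (sq : IsPullback fst snd f.hom b) {U : Over S}
    {c₀ : (yon S).obj U ⟶ P} (hc : RepWith @Etale c₀) (hcs : RepWith @Surjective c₀) (v : ↥V.left)
    (c : WithBot ℕ∞) :
    FibDimLe f (Points.ofPt b v) c ↔ topologicalKrullDim ↥((pre (c₀ ≫ snd)).left.fiber v) ≤ c := by
  have ha : RepWith @Etale (c₀ ≫ fst) := repWith_comp hc (repWith_of_isPullback sq.flip hb)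
  have w : (c₀ ≫ fst) ≫ f.hom = (yon S).map (pre (c₀ ≫ snd)) ≫ b := by
    rw [map_pre, Category.assoc, Category.assoc, sq.w]
  rw [FibreDimChart.dim_fiber_le_iff]
  constructor
  · intro h u hu
    rw [← hasAtMor_fibreDimAt_iff (· ≤ c) ha hb w]
    exact h _ (by rw [map_ofPt_sq w, hu])
  · intro h x hx
    obtain ⟨z, hz₁, hz₂⟩ := exists_point_of_isPullback sq x (Points.ofScheme V v)
      (by rw [hx, Points.ofPt_eq_map_ofScheme])
    obtain ⟨u, rfl⟩ := surjective_ofPt hcs z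
    rw [Points.map_ofPt] at hz₁ hz₂
    rw [← hz₁, hasAtMor_fibreDimAt_iff (· ≤ c) ha hb w]
    refine h u ?_
    rw [ofPt_pre] at hz₂
    simpa using congrArg (Points.toScheme V) hz₂

/-- Over an affine open of a chart, the preimage has an affine chart. -/
theorem exists_chart_affine (hq : IsQuasiCompactMor f.hom) {V₀ : Over S} {b₀ : (yon S).obj V₀ ⟶ Y.obj}
    (hb₀ : RepWith @Etale b₀) {O : V₀.left.Opens} (hO : IsAffineOpen O) :
    ∃ (U V : Over S) (a : (yon S).obj U ⟶ X.obj) (b : (yon S).obj V ⟶ Y.obj) (k : U ⟶ V) (j : V ⟶ V₀),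
      RepWith @Etale a ∧ RepWith @Etale b ∧ a ≫ f.hom = (yon S).map k ≫ b ∧ IsOpenImmersion j.left ∧
      Set.range j.left = (O : Set V₀.left) ∧ (yon S).map j ≫ b₀ = b ∧ IsAffine U.left ∧ IsAffine V.left ∧
      ∀ (v : ↥V.left) (c : WithBot ℕ∞),
        FibDimLe f (Points.ofPt b₀ (j.left v)) c ↔ topologicalKrullDim ↥(k.left.fiber v) ≤ c := by
  let V : Over S := Over.mk (O.ι ≫ V₀.hom)
  let o : V ⟶ V₀ := Over.homMk O.ι rfl
  haveI : IsAffine V.left := hO
  let b := (yon S).map o ≫ b₀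
  have hb : RepWith @Etale b :=
    repWith_comp ((repWith_yon_map_iff @Etale o).2 (inferInstanceAs (Etale O.ι))) hb₀
  have sq := IsPullback.of_hasPullback f.hom b
  have hP := isAlgSpace_of_isPullback X.property Y.property (IsAlgSpace.yon_obj V) sq
  obtain ⟨U, c₀, hU, hc, hcs⟩ :=
    (isQuasiCompactSp_iff_affine hP).1 (hq (IsAlgSpace.yon_obj V) isQuasiCompactSp_yon _ _ _ sq)
  refine ⟨U, V, c₀ ≫ pullback.fst f.hom b, b, pre (c₀ ≫ pullback.snd f.hom b), o,
    repWith_comp hc (repWith_of_isPullback sq.flip hb), hb,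
    by rw [map_pre, Category.assoc, Category.assoc, sq.w], inferInstanceAs (IsOpenImmersion O.ι),
    O.range_ι, rfl, hU, ‹_›, fun v c => ?_⟩
  rw [← fibDimLe_ofPt_iff hb sq hc hcs v c, ofPt_comp]

/-- Openness of a set of points of `Y` from the sets on charts. -/
theorem isOpen_of_charts (hq : IsQuasiCompactMor f.hom) (E : Set (Points Y.obj))
    (h : ∀ (U V : Over S) (a : (yon S).obj U ⟶ X.obj) (b : (yon S).obj V ⟶ Y.obj) (k : U ⟶ V),
      RepWith @Etale a → RepWith @Etale b → a ≫ f.hom = (yon S).map k ≫ b → IsAffine U.left → IsAffine V.left →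
      (∀ v c, FibDimLe f (Points.ofPt b v) c ↔ topologicalKrullDim ↥(k.left.fiber v) ≤ c) →
      IsOpen (Points.ofPt b ⁻¹' E)) : IsOpen E := by
  obtain ⟨V₀, b₀, hb₀, hb₀s⟩ := Y.property.atlas
  rw [← (isQuotientMap_ofPt hb₀ hb₀s).isOpen_preimage]
  refine isOpen_iff_forall_mem_open.2 fun v hv => ?_
  obtain ⟨O, hO, hvO, -⟩ := exists_isAffineOpen_mem_and_subset (show v ∈ (⊤ : V₀.left.Opens) from trivial)
  obtain ⟨U, V, a, b, k, j, ha, hb, w, hj, hjr, rfl, hU, hV, hd⟩ := exists_chart_affine hq hb₀ hO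
  have ho := h U V a _ k ha hb w hU hV fun v' c => by rw [ofPt_comp]; exact hd v' c
  obtain ⟨v', rfl⟩ : v ∈ Set.range j.left := by rw [hjr]; exact hvO
  refine ⟨j.left '' (Points.ofPt ((yon S).map j ≫ b₀) ⁻¹' E), ?_, j.left.isOpenEmbedding.isOpenMap _ ho,
    v', by rw [Set.mem_preimage, ofPt_comp]; exact hv, rfl⟩
  rintro _ ⟨z, hz, rfl⟩
  rwa [Set.mem_preimage, ofPt_comp] at hz

theorem exists_nat_fibDimLe (hf : IsFiniteTypeMor f.hom) (y : Points Y.obj) :
    ∃ n : ℕ, FibDimLe f y (n : WithBot ℕ∞) := by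
  obtain ⟨V₀, b₀, hb₀, hb₀s⟩ := Y.property.atlas
  obtain ⟨v, rfl⟩ := surjective_ofPt hb₀s y
  obtain ⟨O, hO, hvO, -⟩ := exists_isAffineOpen_mem_and_subset (show v ∈ (⊤ : V₀.left.Opens) from trivial)
  obtain ⟨U, V, a, b, k, j, ha, hb, w, hj, hjr, rfl, hU, hV, hd⟩ := exists_chart_affine hf.2 hb₀ hO
  haveI : LocallyOfFiniteType k.left := hf.1 a _ k ha hb w
  obtain ⟨v', rfl⟩ : v ∈ Set.range j.left := by rw [hjr]; exact hvO
  obtain ⟨n, hn⟩ := FibreDimChart.exists_nat_dim_fiber_le k.left v'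
  exact ⟨n, (hd v' _).2 hn⟩

/-- The points at which the fibre dimension is at most `c`, for a universally closed morphism. -/
theorem isOpen_fibDimLe (hf : IsFiniteTypeMor f.hom) (hc : IsClosedMap (Points.map f.hom)) (c : WithBot ℕ∞) :
    IsOpen {y | FibDimLe f y c} := by
  have e : {y | FibDimLe f y c} =
      (Points.map f.hom '' {x | ¬ HasAtMor (fun _ _ h u => FlatMor.fibreDimAt h u ≤ c) f.hom x})ᶜ := by
    ext y
    exact ⟨fun h ⟨x, hx, hxy⟩ => hx (h x hxy), fun h x hxy => by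
      by_contra hx; exact h ⟨x, hx, hxy⟩⟩
  rw [e]
  refine (hc _ ?_).isOpen_compl
  rw [← isOpen_compl_iff, Set.compl_setOf]
  obtain ⟨V₀, b₀, hb₀, hb₀s⟩ := Y.property.atlas
  have sX := IsPullback.of_hasPullback f.hom b₀
  obtain ⟨U, c₀, hc₀, hc₀s⟩ :=
    (isAlgSpace_of_isPullback X.property Y.property (IsAlgSpace.yon_obj V₀) sX).atlas
  let a := c₀ ≫ pullback.fst f.hom b₀
  let k : U ⟶ V₀ := pre (c₀ ≫ pullback.snd f.hom b₀)
  have ha : RepWith @Etale a := repWith_comp hc₀ (repWith_of_isPullback sX.flip hb₀)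
  have has : RepWith @Surjective a := repWith_comp hc₀s (repWith_of_isPullback sX.flip hb₀s)
  have w : a ≫ f.hom = (yon S).map k ≫ b₀ := by rw [map_pre, Category.assoc, Category.assoc, sX.w]
  haveI : LocallyOfFiniteType k.left := hf.1 a b₀ k ha hb₀ w
  rw [← (isQuotientMap_ofPt ha has).isOpen_preimage]
  have hop : IsOpen {u : U.left | FlatMor.fibreDimAt k.left u ≤ c} := by
    induction c with
    | bot =>
      convert isOpen_empty (X := ↥U.left)
      exact Set.eq_empty_iff_forall_notMem.mpr fun u => not_le_bot_of_fibreDimAt _ _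
    | coe c =>
      induction c using ENat.recTopCoe with
      | top => convert isOpen_univ (X := ↥U.left); exact Set.eq_univ_of_forall fun u => show FlatMor.fibreDimAt k.left u ≤ ((⊤ : ℕ∞) : WithBot ℕ∞) by rw [WithBot.coe_top]; exact le_top
      | coe n => exact FibreDimChart.isOpen_fibreDimAt_le k.left n
  convert hop using 1
  ext u
  simp only [Set.mem_preimage, Set.mem_setOf_eq, not_not]
  exact hasAtMor_fibreDimAt_iff (· ≤ c) ha hb₀ w u

theorem forall_dim_iff (hf : LocP @LocallyOfFiniteType f.hom) (P : WithBot ℕ∞ → Prop) (y : Points Y.obj) :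
    (∀ (k : FieldPt Y.obj), Points.mk k = y →
      ∀ (Xk : Sp S) (fst : Xk ⟶ X.obj) (snd : Xk ⟶ (yon S).obj k.pt),
        IsPullback fst snd f.hom k.toHom → P (AlgSp.dim Xk)) ↔
      ∃ d, P d ∧ ∀ c, d ≤ c ↔ FibDimLe f y c := by
  constructor
  · intro h
    obtain ⟨k, rfl⟩ := Points.mk_surjective y
    have sq := IsPullback.of_hasPullback f.hom k.toHom
    exact ⟨_, h k rfl _ _ _ sq, dim_fibre_le_iff hf k sq⟩
  · rintro ⟨d, hd, h⟩ k rfl Xk fst snd sq
    have : AlgSp.dim Xk = d := eq_of_forall_ge_iff fun c => (dim_fibre_le_iff hf k sq c).trans (h c).symm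
    rwa [this]

end Fibre

end Groth.Agent.AlgSpFibDim
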