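import Groth.Agent.AlgSpFibDim.Basic
import Groth.Agent.AlgSpDesc.LqfLocus
import Groth.Agent.AlgSpLoc.Diag
import Groth.Agent.S10649

/-!
Proper morphisms with zero dimensional fibres are finite.
-/

set_option autoImplicit false
set_option linter.style.haveILetI false
set_option backward.isDefEq.respectTransparency false

universe u

open CategoryTheory CategoryTheory.Limits AlgebraicGeometry

namespace Groth.Agent.AlgSpFibDim

open _root_.AlgSp Groth.Agent.AlgSpc Groth.Agent.AlgSpDesc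

variable {S : Scheme.{u}} {X Y X' Y' : Space S} {f : X ⟶ Y} {f' : X' ⟶ Y'} {g : Y' ⟶ Y} {g' : X' ⟶ X}

theorem isProperMor_baseChange (sq : IsPullback g'.hom f'.hom f.hom g.hom) (hf : IsProperMor f.hom) :
    IsProperMor f'.hom :=
  ⟨repWith_diagonal_base_change sq hf.1,
    ⟨AlgSpc.locP_base_change X.property Y.property Y'.property sq hf.2.1.1,
      AlgSpLoc.quasiCompact_of_isPullback sq hf.2.1.2⟩,
    AlgSpLoc.univSp_of_isPullback sq hf.2.2⟩

theorem hasAtMor_le_zero_of_near (hf : LocP @LocallyOfFiniteType f.hom) {x : Points X.obj}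
    (h : HasAtMor (fun U _ h u => ∃ W : U.Opens, u ∈ W ∧ LocallyQuasiFinite (W.ι ≫ h) ∧
      LocallyOfFiniteType (W.ι ≫ h)) f.hom x) :
    HasAtMor (fun _ _ h u => FlatMor.fibreDimAt h u ≤ ((0 : ℕ) : WithBot ℕ∞)) f.hom x := by
  obtain ⟨U, V, a, b, k, u, ha, hb, w, hu, W, hW, h1, h2⟩ := h
  haveI : LocallyOfFiniteType k.left := hf a b k ha hb w
  exact ⟨U, V, a, b, k, u, ha, hb, w, hu,
    (fibreDimAt_le_zero_iff _ u).2 (fibreDimAt_eq_zero_of_lqf_near W hW h1 h2)⟩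

theorem isFiniteMor_of_fibreDim (hf : IsProperMor f.hom)
    (h0 : ∀ x, HasAtMor (fun _ _ h u => FlatMor.fibreDimAt h u ≤ ((0 : ℕ) : WithBot ℕ∞)) f.hom x) :
    IsFiniteMor f.hom := by
  have e : IsFiniteMor f.hom ↔ IsProperMor f.hom ∧ LocP (@LocallyQuasiFinite ⊓ @LocallyOfFiniteType) f.hom :=
    (S10649.result f).out 0 1
  refine e.2 ⟨hf, (locP_iff_hasAtMor X.property Y.property _).2 fun x => ?_⟩
  obtain ⟨U, V, a, b, k, u, ha, hb, w, rfl, hW⟩ := (lqf_locus_baseChange (f := f) (g := 𝟙 Y) (b := 𝟙 X)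
    (f'' := f) hf.2.1.1 (IsPullback.id_horiz f.hom) x).1 (by
      rw [show (𝟙 X : X ⟶ X).hom = 𝟙 X.obj from rfl, Points.map_id]; exact h0 x)
  exact ⟨U, V, a, b, k, u, ha, hb, w, rfl, hW⟩

theorem fibreDim_of_isFiniteMor (hf : IsFiniteMor f.hom) (x : Points X.obj) :
    HasAtMor (fun _ _ h u => FlatMor.fibreDimAt h u ≤ ((0 : ℕ) : WithBot ℕ∞)) f.hom x := by
  have e : IsFiniteMor f.hom ↔ IsProperMor f.hom ∧ LocP (@LocallyQuasiFinite ⊓ @LocallyOfFiniteType) f.hom :=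
    (S10649.result f).out 0 1
  obtain ⟨hp, hq⟩ := e.1 hf
  refine hasAtMor_le_zero_of_near hp.2.1.1 ?_
  obtain ⟨U, V, a, b, k, u, ha, hb, w, rfl, W, hW, h1, h2⟩ :=
    (locP_iff_hasAtMor X.property Y.property _).1 hq x
  exact ⟨U, V, a, b, k, u, ha, hb, w, rfl, W, hW, h1, h2⟩

end Groth.Agent.AlgSpFibDim
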