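import Groth.Agent.AlgSpFibDim.Basic
import Groth.Agent.FibreDimChart.FlatDim

/-!
Semicontinuity of the fibre dimension.
-/

set_option autoImplicit false
set_option linter.style.haveILetI false
set_option backward.isDefEq.respectTransparency false

universe u

open CategoryTheory CategoryTheory.Limits AlgebraicGeometry

namespace Groth.Agent.AlgSpFibDim

open _root_.AlgSp Groth.Agent.AlgSpc Groth.Agent.AlgSpDesc

variable {S : Scheme.{u}} {X Y : Space S} (f : X ⟶ Y)

/-- All fibres over `y` have dimension satisfying `P`. -/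
def AllFibDim (P : WithBot ℕ∞ → Prop) (y : Points Y.obj) : Prop :=
  ∀ (k : FieldPt Y.obj), Points.mk k = y →
    ∀ (Xk : Sp S) (fst : Xk ⟶ X.obj) (snd : Xk ⟶ (yon S).obj k.pt),
      IsPullback fst snd f.hom k.toHom → P (AlgSp.dim Xk)

variable {f}

theorem exists_fibre (y : Points Y.obj) : ∃ (k : FieldPt Y.obj) (_ : Points.mk k = y) (Xk : Sp S)
    (fst : Xk ⟶ X.obj) (snd : Xk ⟶ (yon S).obj k.pt), IsPullback fst snd f.hom k.toHom := by
  obtain ⟨k, hk⟩ := Points.mk_surjective y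
  exact ⟨k, hk, _, _, _, IsPullback.of_hasPullback f.hom k.toHom⟩

theorem allFibDim_le_iff (hf : LocP @LocallyOfFiniteType f.hom) (c : WithBot ℕ∞) (y : Points Y.obj) :
    AllFibDim f (· ≤ c) y ↔ FibDimLe f y c := by
  refine ⟨fun h => ?_, fun h k hk Xk fst snd sq => (dim_fibre_le_iff hf k sq c).2 (hk ▸ h)⟩
  obtain ⟨k, rfl, Xk, fst, snd, sq⟩ := exists_fibre (f := f) y
  exact (dim_fibre_le_iff hf k sq c).1 (h k rfl _ _ _ sq)

theorem allFibDim_lt_iff (hf : LocP @LocallyOfFiniteType f.hom) (c : WithBot ℕ∞) (y : Points Y.obj) :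
    AllFibDim f (c < ·) y ↔ ¬ FibDimLe f y c := by
  refine ⟨fun h hd => ?_, fun h k hk Xk fst snd sq => not_le.1 fun hle => h (hk ▸ (dim_fibre_le_iff hf k sq c).1 hle)⟩
  obtain ⟨k, rfl, Xk, fst, snd, sq⟩ := exists_fibre (f := f) y
  exact not_le.2 (h k rfl _ _ _ sq) ((dim_fibre_le_iff hf k sq c).2 hd)

theorem setOf_congr {P Q : WithBot ℕ∞ → Prop} (h : ∀ e, P e ↔ Q e) :
    {y | AllFibDim f P y} = {y | AllFibDim f Q y} := by
  rw [show P = Q from funext fun e => propext (h e)]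

theorem isOpen_allFibDim_le (hf : IsFiniteTypeMor f.hom) (hc : IsClosedMap (Points.map f.hom)) (c : WithBot ℕ∞) :
    IsOpen {y | AllFibDim f (· ≤ c) y} := by
  convert isOpen_fibDimLe hf hc c using 2
  exact Set.ext fun y => allFibDim_le_iff hf.1 c y

theorem isOpen_allFibDim_lt (hflat : LocP @Flat f.hom) (hfp : LocP @LocallyOfFinitePresentation f.hom)
    (hf : IsFiniteTypeMor f.hom) (c : WithBot ℕ∞) : IsOpen {y | AllFibDim f (c < ·) y} := by
  refine isOpen_of_charts hf.2 _ fun U V a b k ha hb w hU hV hd => ?_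
  haveI : Flat k.left := hflat a b k ha hb w
  haveI : LocallyOfFinitePresentation k.left := hfp a b k ha hb w
  convert FibreDimChart.isOpen_lt_dim_fiber k.left c using 1
  ext v
  simp only [Set.mem_preimage, Set.mem_setOf_eq]
  rw [allFibDim_lt_iff hf.1, hd v c, not_le]

theorem withBot_cases (d : WithBot ℕ∞) :
    d = ⊥ ∨ d = ((0 : ℕ) : WithBot ℕ∞) ∨ (∃ n : ℕ, d = ((n + 1 : ℕ) : WithBot ℕ∞)) ∨ d = ⊤ := by
  induction d with
  | bot => exact Or.inl rfl
  | coe c =>
    induction c using ENat.recTopCoe with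
    | top => exact Or.inr (Or.inr (Or.inr rfl))
    | coe n =>
      cases n with
      | zero => exact Or.inr (Or.inl rfl)
      | succ n => exact Or.inr (Or.inr (Or.inl ⟨n, rfl⟩))

theorem lt_zero_iff (e : WithBot ℕ∞) : e < ((0 : ℕ) : WithBot ℕ∞) ↔ e ≤ ⊥ := by
  induction e with
  | bot => simp
  | coe c => simp

theorem lt_succ_iff (e : WithBot ℕ∞) (n : ℕ) : e < ((n + 1 : ℕ) : WithBot ℕ∞) ↔ e ≤ (n : WithBot ℕ∞) := by
  induction e with
  | bot => simp
  | coe c =>
    induction c using ENat.recTopCoe with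
    | top =>
      simp only [WithBot.coe_top, top_le_iff, not_top_lt, false_iff]
      exact fun h => ENat.natCast_ne_top n (WithBot.coe_inj.1 h)
    | coe m => norm_cast; exact Nat.lt_succ_iff

theorem isOpen_allFibDim_lt' (hf : IsFiniteTypeMor f.hom) (hc : IsClosedMap (Points.map f.hom)) (d : WithBot ℕ∞) :
    IsOpen {y | AllFibDim f (· < d) y} := by
  obtain rfl | rfl | ⟨n, rfl⟩ | rfl := withBot_cases d
  · convert isOpen_empty (X := Points Y.obj)
    refine Set.eq_empty_iff_forall_notMem.mpr fun y hy => ?_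
    obtain ⟨k, hk, Xk, fst, snd, sq⟩ := exists_fibre (f := f) y
    exact not_lt_bot (hy k hk _ _ _ sq)
  · rw [setOf_congr lt_zero_iff]; exact isOpen_allFibDim_le hf hc _
  · rw [setOf_congr fun e => lt_succ_iff e n]; exact isOpen_allFibDim_le hf hc _
  · convert isOpen_univ (X := Points Y.obj)
    refine Set.eq_univ_of_forall fun y k hk Xk fst snd sq => ?_
    obtain ⟨n, hn⟩ := exists_nat_fibDimLe hf y
    exact lt_of_le_of_lt ((dim_fibre_le_iff hf.1 k sq _).2 (hk ▸ hn))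
      (WithBot.coe_lt_coe.2 (ENat.natCast_lt_top n))

theorem isOpen_allFibDim_eq (hflat : LocP @Flat f.hom) (hfp : LocP @LocallyOfFinitePresentation f.hom)
    (hf : IsFiniteTypeMor f.hom) (hc : IsClosedMap (Points.map f.hom)) (d : WithBot ℕ∞) :
    IsOpen {y | AllFibDim f (· = d) y} := by
  obtain rfl | rfl | ⟨n, rfl⟩ | rfl := withBot_cases d
  · rw [setOf_congr fun e => (le_bot_iff (a := e)).symm]; exact isOpen_allFibDim_le hf hc _
  · convert (isOpen_allFibDim_le hf hc ((0 : ℕ) : WithBot ℕ∞)).inter (isOpen_allFibDim_lt hflat hfp hf ⊥) using 1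
    refine Set.ext fun y => ⟨fun h => ⟨fun k hk _ _ _ sq => (h k hk _ _ _ sq).le, fun k hk _ _ _ sq => ?_⟩,
      fun h k hk _ _ _ sq => le_antisymm (h.1 k hk _ _ _ sq) (not_lt.1 fun h' => ?_)⟩
    · rw [h k hk _ _ _ sq]; exact WithBot.bot_lt_coe _
    · exact ((lt_zero_iff _).1 h').not_gt (h.2 k hk _ _ _ sq)
  · convert (isOpen_allFibDim_le hf hc ((n + 1 : ℕ) : WithBot ℕ∞)).inter
      (isOpen_allFibDim_lt hflat hfp hf (n : WithBot ℕ∞)) using 1
    refine Set.ext fun y => ⟨fun h => ⟨fun k hk _ _ _ sq => (h k hk _ _ _ sq).le, fun k hk _ _ _ sq => ?_⟩,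
      fun h k hk _ _ _ sq => le_antisymm (h.1 k hk _ _ _ sq) (not_lt.1 fun h' => ?_)⟩
    · rw [h k hk _ _ _ sq]; exact (lt_succ_iff _ n).2 le_rfl
    · exact ((lt_succ_iff _ n).1 h').not_gt (h.2 k hk _ _ _ sq)
  · convert isOpen_empty (X := Points Y.obj)
    refine Set.eq_empty_iff_forall_notMem.mpr fun y hy => ?_
    obtain ⟨k, hk, Xk, fst, snd, sq⟩ := exists_fibre (f := f) y
    obtain ⟨n, hn⟩ := exists_nat_fibDimLe hf y
    have := (dim_fibre_le_iff hf.1 k sq _).2 (hk ▸ hn)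
    rw [hy k hk _ _ _ sq] at this
    exact absurd this (not_le.2 (WithBot.coe_lt_coe.2 (ENat.natCast_lt_top n)))

end Groth.Agent.AlgSpFibDim
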